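-- Copy of Groth/Agent/H15/Depth.lean (by helper15), re-namespaced under H58 so that H58 modules are self-contained.
import Mathlib.RingTheory.Depth.Rees
import Mathlib.RingTheory.Regular.Flat
import Groth.Prelude.Def_CAlg

set_option autoImplicit false
universe v u

open LinearMap RingTheory.Sequence Ideal CategoryTheory Abelian Limits Pointwise IsSMulRegular

namespace Groth.Agent.H58.X15

variable {R : Type u} [CommRing R]

theorem smul_top_quotSMulTop_ne_top {M : Type*} [AddCommGroup M]
    [Module R M] {I : Ideal R} {r : R} (hr : r ∈ I)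
    (hI : I • (⊤ : Submodule R M) ≠ ⊤) :
    I • (⊤ : Submodule R (QuotSMulTop r M)) ≠ ⊤ := by
  by_contra eq
  absurd congrArg (Submodule.comap (Submodule.mkQ _)) eq
  simpa [Submodule.comap_smul_top_of_surjective I _ (Submodule.mkQ_surjective _),
    Submodule.smul_mono_left ((span_singleton_le_iff_mem I).mpr hr),
    ← Submodule.ideal_span_singleton_smul] using hI

/-- Depth drops by (at most) one on dividing by a regular element: if `M` has a regular sequence of
length `n + 1` inside `I` and `x ∈ I` is `M`-regular, then `M/xM` has a regular sequence of length `n`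
inside `I`. -/
theorem exists_isRegular_quotSMulTop [IsNoetherianRing R] [Small.{v} R]
    (I : Ideal R) (M : Type v) [AddCommGroup M] [Module R M] [Module.Finite R M]
    (hIM : I • (⊤ : Submodule R M) ≠ ⊤) (x : R) (hxI : x ∈ I) (hx : IsSMulRegular M x) (n : ℕ)
    (h : ∃ rs : List R, rs.length = n + 1 ∧ (∀ r ∈ rs, r ∈ I) ∧ IsRegular M rs) :
    ∃ rs : List R, rs.length = n ∧ (∀ r ∈ rs, r ∈ I) ∧ IsRegular (QuotSMulTop x M) rs := by
  have tfae := ModuleCat.exists_isRegular_tfae I (n + 1) (ModuleCat.of R M)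
    (lt_top_iff_ne_top.mpr hIM)
  have h_ext := (tfae.out 3 1).mp h
  have hx' : IsSMulRegular (ModuleCat.of R M) x := hx
  have h_ext' : ∀ i < n, Subsingleton
      (Ext (ModuleCat.of R (Shrink.{v} (R ⧸ I))) (ModuleCat.of R (QuotSMulTop x M)) i) := by
    intro i hi
    have zero1 := AddCommGrpCat.isZero_of_iff_subsingleton.mpr (h_ext i (by omega))
    have zero2 := AddCommGrpCat.isZero_of_iff_subsingleton.mpr (h_ext (i + 1) (by omega))
    exact AddCommGrpCat.subsingleton_of_isZero <| ShortComplex.Exact.isZero_of_both_zeros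
      ((Ext.covariant_sequence_exact₃' (ModuleCat.of R (Shrink.{v} (R ⧸ I)))
        hx'.smulShortComplex_shortExact) i (i + 1) rfl)
      (zero1.eq_zero_of_src _) (zero2.eq_zero_of_tgt _)
  have tfae' := ModuleCat.exists_isRegular_tfae I n (ModuleCat.of R (QuotSMulTop x M))
    (lt_top_iff_ne_top.mpr (smul_top_quotSMulTop_ne_top hxI hIM))
  exact (tfae'.out 1 3).mp h_ext'


section idealDepth

variable (I : Ideal R) (M : Type*) [AddCommGroup M] [Module R M]

theorem le_idealDepth {rs : List R} (h : IsWeaklyRegular M rs) (hI : ∀ r ∈ rs, r ∈ I) :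
    (rs.length : ℕ∞) ≤ LocCoh.idealDepth I M := by
  unfold LocCoh.idealDepth
  split_ifs
  · exact le_top
  · exact le_iSup₂_of_le rs ⟨h, hI⟩ le_rfl

theorem idealDepth_eq_top_of_smul_top_eq (h : I • (⊤ : Submodule R M) = ⊤) :
    LocCoh.idealDepth I M = ⊤ := by
  unfold LocCoh.idealDepth
  rw [if_pos h]

theorem idealDepth_le_of_forall (hne : I • (⊤ : Submodule R M) ≠ ⊤) (d : ℕ∞)
    (h : ∀ rs : List R, IsWeaklyRegular M rs → (∀ r ∈ rs, r ∈ I) → (rs.length : ℕ∞) ≤ d) :
    LocCoh.idealDepth I M ≤ d := by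
  unfold LocCoh.idealDepth
  rw [if_neg hne]
  exact iSup₂_le fun rs hrs => h rs hrs.1 hrs.2

theorem isRegular_of_isWeaklyRegular_of_mem {rs : List R} (hne : I • (⊤ : Submodule R M) ≠ ⊤)
    (h : IsWeaklyRegular M rs) (hI : ∀ r ∈ rs, r ∈ I) : IsRegular M rs := by
  refine ⟨h, fun htop => hne ?_⟩
  refine le_antisymm le_top ?_
  have hle : Ideal.ofList rs ≤ I := by
    rw [Ideal.ofList, Ideal.span_le]
    exact fun r hr => hI r hr
  calc (⊤ : Submodule R M) = Ideal.ofList rs • (⊤ : Submodule R M) := htop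
    _ ≤ I • (⊤ : Submodule R M) := Submodule.smul_mono_left hle

/-- If the depth is at least `n` (and `IM ≠ M`), there is a regular sequence of length exactly `n`. -/
theorem exists_isRegular_of_le_idealDepth (hne : I • (⊤ : Submodule R M) ≠ ⊤) (n : ℕ)
    (h : (n : ℕ∞) ≤ LocCoh.idealDepth I M) :
    ∃ rs : List R, rs.length = n ∧ (∀ r ∈ rs, r ∈ I) ∧ IsRegular M rs := by
  unfold LocCoh.idealDepth at h
  rw [if_neg hne] at h
  rcases Nat.eq_zero_or_pos n with rfl | hn
  · exact ⟨[], rfl, by simp, isRegular_of_isWeaklyRegular_of_mem I M hne (IsWeaklyRegular.nil R M) (by simp)⟩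
  -- some sequence has length ≥ n
  have : ∃ rs : List R, (IsWeaklyRegular M rs ∧ ∀ r ∈ rs, r ∈ I) ∧ n ≤ rs.length := by
    by_contra hcon
    push Not at hcon
    have hle : (⨆ (rs : List R) (_ : IsWeaklyRegular M rs ∧ ∀ r ∈ rs, r ∈ I), (rs.length : ℕ∞)) ≤
        ((n - 1 : ℕ) : ℕ∞) := by
      refine iSup₂_le fun rs hrs => ?_
      have := hcon rs hrs
      exact_mod_cast Nat.le_sub_one_of_lt this
    have := h.trans hle
    have : n ≤ n - 1 := by exact_mod_cast this
    omega
  obtain ⟨rs, ⟨hreg, hmem⟩, hlen⟩ := this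
  refine ⟨rs.take n, by simp [hlen], fun r hr => hmem r (List.mem_of_mem_take hr), ?_⟩
  apply isRegular_of_isWeaklyRegular_of_mem I M hne _ (fun r hr => hmem r (List.mem_of_mem_take hr))
  have := (isWeaklyRegular_append_iff M (rs.take n) (rs.drop n)).mp (by rwa [List.take_append_drop])
  exact this.1


theorem smul_top_eq_top_of_equiv {M N : Type*} [AddCommGroup M] [Module R M] [AddCommGroup N]
    [Module R N] (e : M ≃ₗ[R] N) (I : Ideal R) (h : I • (⊤ : Submodule R M) = ⊤) :
    I • (⊤ : Submodule R N) = ⊤ := by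
  have := congrArg (Submodule.map e.toLinearMap) h
  rwa [Submodule.map_smul'', Submodule.map_top, LinearEquiv.range] at this

theorem smul_top_eq_top_congr {M N : Type*} [AddCommGroup M] [Module R M] [AddCommGroup N] [Module R N]
    (e : M ≃ₗ[R] N) (I : Ideal R) :
    I • (⊤ : Submodule R M) = ⊤ ↔ I • (⊤ : Submodule R N) = ⊤ :=
  ⟨smul_top_eq_top_of_equiv e I, smul_top_eq_top_of_equiv e.symm I⟩

theorem idealDepth_congr {M N : Type*} [AddCommGroup M] [Module R M] [AddCommGroup N] [Module R N]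
    (e : M ≃ₗ[R] N) (I : Ideal R) : LocCoh.idealDepth I M = LocCoh.idealDepth I N := by
  unfold LocCoh.idealDepth
  by_cases h : I • (⊤ : Submodule R M) = ⊤
  · rw [if_pos h, if_pos ((smul_top_eq_top_congr e I).mp h)]
  · rw [if_neg h, if_neg (fun h' => h ((smul_top_eq_top_congr e I).mpr h'))]
    apply le_antisymm
    · exact iSup₂_le fun rs hrs =>
        le_iSup₂_of_le rs ⟨(e.isWeaklyRegular_congr rs).mp hrs.1, hrs.2⟩ le_rfl
    · exact iSup₂_le fun rs hrs =>
        le_iSup₂_of_le rs ⟨(e.isWeaklyRegular_congr rs).mpr hrs.1, hrs.2⟩ le_rfl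

theorem smul_top_quotSMulTop_eq_top {M : Type*} [AddCommGroup M] [Module R M] (I : Ideal R) (r : R)
    (h : I • (⊤ : Submodule R M) = ⊤) : I • (⊤ : Submodule R (QuotSMulTop r M)) = ⊤ := by
  have := congrArg (Submodule.map (Submodule.mkQ (r • (⊤ : Submodule R M)))) h
  rwa [Submodule.map_smul'', Submodule.map_top, Submodule.range_mkQ] at this

/-- Depth drops by at most one modulo a regular element of the ideal. -/
theorem le_idealDepth_quotSMulTop [IsNoetherianRing R] [Small.{v} R]
    (I : Ideal R) (M : Type v) [AddCommGroup M] [Module R M] [Module.Finite R M]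
    (x : R) (hxI : x ∈ I) (hx : IsSMulRegular M x) (n : ℕ)
    (h : ((n + 1 : ℕ) : ℕ∞) ≤ LocCoh.idealDepth I M) :
    (n : ℕ∞) ≤ LocCoh.idealDepth I (QuotSMulTop x M) := by
  by_cases hq : I • (⊤ : Submodule R (QuotSMulTop x M)) = ⊤
  · rw [idealDepth_eq_top_of_smul_top_eq _ _ hq]
    exact le_top
  · have hne : I • (⊤ : Submodule R M) ≠ ⊤ := fun h' => hq (smul_top_quotSMulTop_eq_top I x h')
    obtain ⟨rs, hlen, hmem, hreg⟩ := exists_isRegular_quotSMulTop I M hne x hxI hx n
      (exists_isRegular_of_le_idealDepth I M hne (n + 1) h)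
    rw [← hlen]
    exact le_idealDepth I _ hreg.toIsWeaklyRegular hmem

end idealDepth

end Groth.Agent.H58.X15
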