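-- Copy of Groth/Agent/H15/DepthFlat.lean (by helper15), re-namespaced under H58 so that H58 modules are self-contained.
import Groth.Agent.H58.X15.Depth
import Mathlib.RingTheory.Regular.LinearMap
import Mathlib.RingTheory.Flat.FaithfullyFlat.Basic

set_option autoImplicit false
universe u

open RingTheory.Sequence TensorProduct

namespace Groth.Agent.H58.X15

variable {A : Type u} [CommRing A]

/-- If no element of `I` is `M`-regular then some nonzero element of `M` is killed by `I`. -/
theorem exists_ne_zero_smul_eq_zero_of_forall_not_isSMulRegular [IsNoetherianRing A] (I : Ideal A)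
    (M : Type*) [AddCommGroup M] [Module A M] [Module.Finite A M]
    (h : ∀ x ∈ I, ¬ IsSMulRegular M x) : ∃ m : M, m ≠ 0 ∧ ∀ a ∈ I, a • m = 0 := by
  have hns : ¬ Subsingleton ((A ⧸ I) →ₗ[A] M) := by
    rw [IsSMulRegular.subsingleton_linearMap_iff]
    rintro ⟨r, hr, hreg⟩
    rw [Ideal.annihilator_quotient] at hr
    exact h r hr hreg
  rw [not_subsingleton_iff_nontrivial] at hns
  obtain ⟨g, hg⟩ := exists_ne (0 : (A ⧸ I) →ₗ[A] M)
  refine ⟨g (Ideal.Quotient.mk I 1), ?_, ?_⟩
  · intro h0
    apply hg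
    ext
    simpa using h0
  · intro a ha
    rw [← map_smul, ← Ideal.Quotient.mk_eq_mk, ← Submodule.Quotient.mk_smul, smul_eq_mul, mul_one,
      Ideal.Quotient.mk_eq_mk, Ideal.Quotient.eq_zero_iff_mem.mpr ha, map_zero]

variable {B : Type u} [CommRing B] [Algebra A B]

theorem map_smul_one_tmul_eq_zero (I : Ideal A) {M : Type*} [AddCommGroup M] [Module A M] (m : M)
    (hm : ∀ a ∈ I, a • m = 0) (y : B) (hy : y ∈ I.map (algebraMap A B)) :
    y • ((1 : B) ⊗ₜ[A] m) = 0 := by
  rw [Ideal.map] at hy
  induction hy using Submodule.span_induction with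
  | mem y hy =>
    obtain ⟨a, ha, rfl⟩ := hy
    rw [TensorProduct.smul_tmul', smul_eq_mul, mul_one, Algebra.algebraMap_eq_smul_one,
      TensorProduct.smul_tmul, hm a ha, TensorProduct.tmul_zero]
  | zero => exact zero_smul _ _
  | add x y _ _ hx hy => rw [add_smul, hx, hy, add_zero]
  | smul b x _ hx => rw [smul_eq_mul, mul_smul, hx, smul_zero]

/-- Descent of regular sequences of a given length along a faithfully flat ring map. -/
theorem exists_isRegular_of_faithfullyFlat [IsNoetherianRing A] [IsNoetherianRing B]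
    [Module.FaithfullyFlat A B] (I : Ideal A) (n : ℕ) :
    ∀ (M : Type u) [AddCommGroup M] [Module A M] [Module.Finite A M],
      I • (⊤ : Submodule A M) ≠ ⊤ →
      (∃ rs' : List B, rs'.length = n ∧ (∀ r ∈ rs', r ∈ I.map (algebraMap A B)) ∧
        IsRegular (B ⊗[A] M) rs') →
      ∃ rs : List A, rs.length = n ∧ (∀ r ∈ rs, r ∈ I) ∧ IsRegular M rs := by
  induction n with
  | zero =>
    intro M _ _ _ hne _
    exact ⟨[], rfl, by simp,
      isRegular_of_isWeaklyRegular_of_mem I M hne (IsWeaklyRegular.nil A M) (by simp)⟩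
  | succ n ih =>
    intro M _ _ _ hne ⟨rs', hlen, hmem, hreg⟩
    have hneB : I.map (algebraMap A B) • (⊤ : Submodule B (B ⊗[A] M)) ≠ ⊤ :=
      ((TensorProduct.isBaseChange A M B).map_smul_top_ne_top_iff_of_faithfullyFlat A M I).mpr hne
    -- a regular element in `I`
    have hex : ∃ x ∈ I, IsSMulRegular M x := by
      by_contra hcon
      push Not at hcon
      obtain ⟨m, hm0, hm⟩ := exists_ne_zero_smul_eq_zero_of_forall_not_isSMulRegular I M hcon
      match rs', hlen, hmem, hreg with
      | [], hlen, _, _ => simp at hlen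
      | y :: rs'', _, hmem, hreg =>
        have hy : IsSMulRegular (B ⊗[A] M) y := ((isRegular_cons_iff _ _ _).mp hreg).1
        have h0 : y • ((1 : B) ⊗ₜ[A] m) = y • (0 : B ⊗[A] M) := by
          rw [smul_zero]
          exact map_smul_one_tmul_eq_zero I m hm y (hmem y List.mem_cons_self)
        have h1 : (1 : B) ⊗ₜ[A] m = 0 := hy h0
        exact hm0 ((Module.FaithfullyFlat.one_tmul_eq_zero_iff A M m).mp h1)
    obtain ⟨x, hxI, hx⟩ := hex
    have hxB : IsSMulRegular (B ⊗[A] M) (algebraMap A B x) :=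
      hx.of_flat_of_isBaseChange (TensorProduct.isBaseChange A M B)
    obtain ⟨rs₁, hlen₁, hmem₁, hreg₁⟩ :=
      exists_isRegular_quotSMulTop (I.map (algebraMap A B)) (B ⊗[A] M) hneB (algebraMap A B x)
        (Ideal.mem_map_of_mem _ hxI) hxB n ⟨rs', hlen, hmem, hreg⟩
    have e := QuotSMulTop.algebraMapTensorEquivTensorQuotSMulTop x M B
    have hreg₂ : IsRegular (B ⊗[A] QuotSMulTop x M) rs₁ := (e.isRegular_congr rs₁).mp hreg₁
    obtain ⟨rs, hlen', hmem', hreg'⟩ := ih (QuotSMulTop x M)
      (smul_top_quotSMulTop_ne_top hxI hne) ⟨rs₁, hlen₁, hmem₁, hreg₂⟩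
    refine ⟨x :: rs, by simp [hlen'], ?_, (isRegular_cons_iff _ _ _).mpr ⟨hx, hreg'⟩⟩
    intro r hr
    rcases List.mem_cons.mp hr with rfl | hr
    · exact hxI
    · exact hmem' r hr

theorem map_smul_top_eq_top_of_smul_top_eq_top (I : Ideal A) (M : Type*) [AddCommGroup M] [Module A M]
    (h : I • (⊤ : Submodule A M) = ⊤) :
    I.map (algebraMap A B) • (⊤ : Submodule B (B ⊗[A] M)) = ⊤ := by
  rw [eq_top_iff]
  rintro z -
  induction z using TensorProduct.induction_on with
  | zero => exact Submodule.zero_mem _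
  | tmul b m =>
    have hm : m ∈ I • (⊤ : Submodule A M) := by rw [h]; exact Submodule.mem_top
    have h1 : (1 : B) ⊗ₜ[A] m ∈ I.map (algebraMap A B) • (⊤ : Submodule B (B ⊗[A] M)) := by
      induction hm using Submodule.smul_induction_on' with
      | smul a ha m' _ =>
        have : (1 : B) ⊗ₜ[A] (a • m') = algebraMap A B a • ((1 : B) ⊗ₜ[A] m') := by
          rw [TensorProduct.smul_tmul', smul_eq_mul, mul_one, Algebra.algebraMap_eq_smul_one,
            TensorProduct.smul_tmul]
        rw [this]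
        exact Submodule.smul_mem_smul (Ideal.mem_map_of_mem _ ha) Submodule.mem_top
      | add x _ y _ hx hy =>
        rw [TensorProduct.tmul_add]
        exact Submodule.add_mem _ hx hy
    have : b ⊗ₜ[A] m = b • ((1 : B) ⊗ₜ[A] m) := by
      rw [TensorProduct.smul_tmul', smul_eq_mul, mul_one]
    rw [this]
    exact Submodule.smul_mem _ _ h1
  | add x y hx hy => exact Submodule.add_mem _ hx hy

end Groth.Agent.H58.X15
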